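import Mathlib.RingTheory.Kaehler.Basic
import Mathlib.RingTheory.Unramified.Field
import Mathlib.RingTheory.Etale.Kaehler
import Mathlib.RingTheory.Etale.Field
import Mathlib.RingTheory.EssentialFiniteness
import Mathlib.FieldTheory.IntermediateField.Adjoin.Algebra
import Mathlib.FieldTheory.IntermediateField.Basic

/-!
# Separability and differentials
-/

set_option autoImplicit false
universe u v

open KaehlerDifferential

namespace Groth.Agent.SepDiff28

variable {k : Type u} {F : Type v} [Field k] [Field F] [Algebra k F]

theorem essFiniteType_of_fg (hF : (⊤ : IntermediateField k F).FG) : Algebra.EssFiniteType k F := by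
  have h1 : Algebra.EssFiniteType k (⊤ : IntermediateField k F) := IntermediateField.essFiniteType_iff.2 hF
  exact Algebra.EssFiniteType.of_surjective
    (IntermediateField.topEquiv (F := k) (E := F)).toAlgHom IntermediateField.topEquiv.surjective

/-- The elements killed by a derivation. -/
def constants {M : Type*} [AddCommGroup M] [Module k M] [Module F M] (d : Derivation k F M) :
    IntermediateField k F where
  carrier := {y | d y = 0}
  add_mem' {a b} (ha : d a = 0) (hb : d b = 0) := show d (a + b) = 0 by rw [map_add, ha, hb, add_zero]
  mul_mem' {a b} (ha : d a = 0) (hb : d b = 0) :=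
    show d (a * b) = 0 by rw [Derivation.leibniz, ha, hb, smul_zero, smul_zero, add_zero]
  algebraMap_mem' c := d.map_algebraMap c
  inv_mem' a (ha : d a = 0) := show d a⁻¹ = 0 by rw [Derivation.leibniz_inv, ha, smul_zero]

theorem D_mem_span_of_mem_adjoin {ι : Type*} (x : ι → F) {y : F}
    (hy : y ∈ IntermediateField.adjoin k (Set.range x)) :
    D k F y ∈ Submodule.span F (Set.range fun i => D k F (x i)) := by
  set S := Submodule.span F (Set.range fun i => D k F (x i))
  have h : IntermediateField.adjoin k (Set.range x) ≤ constants (S.mkQ.compDer (D k F)) := by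
    rw [IntermediateField.adjoin_le_iff]
    rintro _ ⟨i, rfl⟩
    exact (Submodule.Quotient.mk_eq_zero S).2 (Submodule.subset_span ⟨i, rfl⟩)
  exact (Submodule.Quotient.mk_eq_zero S).1 (h hy)

theorem span_D_eq_top_iff [Algebra.EssFiniteType k F] {ι : Type*} (x : ι → F) :
    Submodule.span F (Set.range fun i => D k F (x i)) = ⊤ ↔
      Algebra.IsSeparable (IntermediateField.adjoin k (Set.range x)) F := by
  let E := IntermediateField.adjoin k (Set.range x)
  have : Algebra.EssFiniteType E F := Algebra.EssFiniteType.of_comp k E F
  constructor
  · intro h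
    have hsub : Subsingleton (Ω[F⁄E]) := by
      refine (Submodule.subsingleton_iff F).1 ((subsingleton_iff_bot_eq_top).1 ?_)
      rw [eq_comm, ← (LinearMap.range_eq_top.2 (KaehlerDifferential.map_surjective k E F)), LinearMap.range_eq_map,
        ← h, Submodule.map_span, Submodule.span_eq_bot]
      rintro _ ⟨_, ⟨i, rfl⟩, rfl⟩
      rw [KaehlerDifferential.map_D]
      exact (D E F).map_algebraMap (⟨x i, IntermediateField.subset_adjoin _ _ ⟨i, rfl⟩⟩ : E)
    have : Algebra.FormallyUnramified E F := ⟨hsub⟩
    exact Algebra.FormallyUnramified.isSeparable E F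
  · intro h
    have : Subsingleton (Ω[F⁄E]) := (Algebra.FormallyUnramified.of_isSeparable E F).1
    suffices H : ∀ z, z ∈ Submodule.span F (Set.range fun i => D k F (x i)) from eq_top_iff.2 fun z _ => H z
    intro z
    obtain ⟨w, rfl⟩ := (KaehlerDifferential.exact_mapBaseChange_map k E F z).1 (Subsingleton.elim _ _)
    induction w with
    | zero => simp
    | add a b ha hb => rw [map_add]; exact add_mem ha hb
    | tmul c m =>
      rw [KaehlerDifferential.mapBaseChange_tmul]
      refine Submodule.smul_mem _ _ ?_
      have hm : m ∈ Submodule.span E (Set.range (D k E)) := by rw [span_range_derivation]; trivial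
      induction hm using Submodule.span_induction with
      | mem m hm =>
        obtain ⟨e, rfl⟩ := hm
        rw [KaehlerDifferential.map_D]
        exact D_mem_span_of_mem_adjoin x e.2
      | zero => rw [map_zero]; exact zero_mem _
      | add a b _ _ ha hb => rw [map_add]; exact add_mem ha hb
      | smul r a _ ha =>
        rw [map_smul, ← algebraMap_smul F r]
        exact Submodule.smul_mem _ _ ha

end Groth.Agent.SepDiff28
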